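import Mathlib

set_option autoImplicit false

/-!
# An abelian subgroup of bounded index

A finite group generated by `n` elements with an automorphism of period two fixing at most `m`
elements has an invariant abelian subgroup whose index is bounded in terms of `n` and `m`.
-/

namespace CfsgLib.OddInverted

universe u

variable {K : Type u} [Group K] [Finite K]

/-- The bound on the index of the abelian subgroup. -/
def abelianBound (n m : ℕ) : ℕ :=
  Nat.factorial (2 * m ^ 4) ^ (Nat.factorial (2 * m ^ 4) ^ n) * (2 * m ^ 4)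

section Count

variable [Fintype K] [DecidableEq K]

omit [Finite K] in
/-- Commuting pairs are many when an automorphism of period two fixes few elements. -/
theorem card_sq_le_mul_commuting (β : MulAut K) (hβ : ∀ x, β (β x) = x) {m : ℕ}
    (hfix : Nat.card {g : K // β g = g} ≤ m) :
    Fintype.card K ^ 2 ≤ m ^ 4 *
      (Finset.univ.filter (fun p : K × K => p.1 * p.2 = p.2 * p.1)).card := by
  classical
  set C := Finset.univ.filter (fun p : K × K => p.1 * p.2 = p.2 * p.1) with hC
  set I := Finset.univ.image (fun k : K => k⁻¹ * β k) with hI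
  set Q := ((I ×ˢ I) ×ˢ (I ×ˢ I)).filter
    (fun q : (K × K) × (K × K) => q.1.1 * q.1.2 = q.2.1 * q.2.2) with hQ
  set F := fun g : K => (I ×ˢ I).filter (fun p : K × K => p.1 * p.2 = g) with hF
  have hinv : ∀ a ∈ I, β a = a⁻¹ := by
    intro a ha
    rw [hI, Finset.mem_image] at ha
    obtain ⟨k, -, rfl⟩ := ha
    simp [hβ k, mul_inv_rev]
  -- the image is large
  have hlarge : Fintype.card K ≤ m * I.card := by
    rw [hI]
    refine Finset.card_le_mul_card_image (Finset.univ : Finset K) m ?_
    intro a ha
    rw [Finset.mem_image] at ha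
    obtain ⟨k₀, -, rfl⟩ := ha
    refine le_trans ?_ hfix
    rw [Nat.card_eq_fintype_card, Fintype.card_subtype]
    refine Finset.card_le_card_of_injOn (fun k => k * k₀⁻¹) ?_ ?_
    · intro k hk
      simp only [Finset.coe_filter, Finset.mem_univ, true_and, Set.mem_ofPred_eq] at hk ⊢
      have hk' : β k = k * (k₀⁻¹ * β k₀) := by rw [← hk]; group
      rw [map_mul, map_inv, hk']
      group
    · intro x _ y _ hxy
      exact mul_right_cancel hxy
  -- Cauchy–Schwarz
  have hsum : ∑ g : K, (F g).card = (I ×ˢ I).card :=
    (Finset.card_eq_sum_card_fiberwise (fun p _ => Finset.mem_univ _)).symm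
  have hQsum : Q.card = ∑ g : K, (F g).card ^ 2 := by
    rw [Finset.card_eq_sum_card_fiberwise (t := (Finset.univ : Finset K))
      (f := fun q : (K × K) × (K × K) => q.1.1 * q.1.2) (fun q _ => Finset.mem_univ _)]
    refine Finset.sum_congr rfl fun g _ => ?_
    rw [sq, ← Finset.card_product]
    congr 1
    ext q
    simp only [hQ, hF, Finset.mem_filter, Finset.mem_product]
    constructor
    · rintro ⟨⟨⟨h1, h2⟩, h3⟩, h4⟩
      exact ⟨⟨h1, h4⟩, h2, h3 ▸ h4⟩
    · rintro ⟨⟨h1, h4⟩, h2, h5⟩
      exact ⟨⟨⟨h1, h2⟩, h4.trans h5.symm⟩, h4⟩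
  have hCS : I.card ^ 4 ≤ Fintype.card K * Q.card := by
    have h := sq_sum_le_card_mul_sum_sq (s := (Finset.univ : Finset K))
      (f := fun g => (F g).card)
    rw [hsum, ← hQsum, Finset.card_product, Finset.card_univ] at h
    calc I.card ^ 4 = (I.card * I.card) ^ 2 := by ring
      _ ≤ _ := h
  -- the injection
  have hinj : Q.card ≤ C.card * Fintype.card K := by
    rw [← Finset.card_univ (α := K), ← Finset.card_product]
    refine Finset.card_le_card_of_injOn
      (fun q => ((q.2.1⁻¹ * q.1.1, q.1.2 * q.2.1), q.2.1)) ?_ ?_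
    · intro q hq
      simp only [hQ, Finset.coe_filter, Finset.mem_product, Set.mem_ofPred_eq] at hq
      obtain ⟨⟨⟨hx, hy⟩, hx', hy'⟩, he⟩ := hq
      obtain ⟨⟨x, y⟩, x', y'⟩ := q
      simp only at hx hy hx' hy' he ⊢
      have hb : y * x = y' * x' := by
        have h := congrArg β he
        rw [map_mul, map_mul, hinv x hx, hinv y hy, hinv x' hx', hinv y' hy'] at h
        have h2 := congrArg (·⁻¹) h
        simpa [mul_inv_rev] using h2
      have hy'2 : y' = x'⁻¹ * x * y := by rw [mul_assoc, he]; group
      simp only [Finset.coe_product, Set.mem_prod, Finset.coe_univ, Set.mem_univ, and_true, hC,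
        Finset.coe_filter, Finset.mem_univ, true_and, Set.mem_ofPred_eq]
      calc x'⁻¹ * x * (y * x') = y' * x' := by rw [hy'2]; group
        _ = y * x := hb.symm
        _ = y * x' * (x'⁻¹ * x) := by group
    · rintro ⟨⟨x, y⟩, x', y'⟩ hq ⟨⟨x2, y2⟩, x2', y2'⟩ hq2 h
      simp only [hQ, Finset.coe_filter, Set.mem_ofPred_eq] at hq hq2
      simp only [Prod.mk.injEq] at h
      obtain ⟨⟨h1, h2⟩, h3⟩ := h
      subst h3
      have e1 : x = x2 := mul_left_cancel h1
      have e2 : y = y2 := mul_right_cancel h2
      subst e1 e2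
      have e3 : y' = y2' := mul_left_cancel (hq.2.symm.trans hq2.2)
      subst e3
      rfl
  have hpos : 0 < Fintype.card K ^ 2 := by
    have : 0 < Fintype.card K := Fintype.card_pos
    positivity
  refine Nat.le_of_mul_le_mul_left ?_ hpos
  calc Fintype.card K ^ 2 * Fintype.card K ^ 2 = Fintype.card K ^ 4 := by ring
    _ ≤ (m * I.card) ^ 4 := Nat.pow_le_pow_left hlarge 4
    _ = m ^ 4 * I.card ^ 4 := by ring
    _ ≤ m ^ 4 * (Fintype.card K * (C.card * Fintype.card K)) :=
        Nat.mul_le_mul_left _ (hCS.trans (Nat.mul_le_mul_left _ hinj))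
    _ = Fintype.card K ^ 2 * (m ^ 4 * C.card) := by ring

omit [Finite K] in
/-- Many elements have large centralisers when commuting pairs are many. -/
theorem card_le_mul_large_centralizer {c : ℕ}
    (h : Fintype.card K ^ 2 ≤ c *
      (Finset.univ.filter (fun p : K × K => p.1 * p.2 = p.2 * p.1)).card) :
    Fintype.card K ≤ 2 * c * (Finset.univ.filter (fun k : K => Fintype.card K ≤
      2 * c * (Finset.univ.filter (fun x : K => k * x = x * k)).card)).card := by
  classical
  set cent := fun k : K => (Finset.univ.filter (fun x : K => k * x = x * k)).card with hcent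
  set X₀ := Finset.univ.filter (fun k : K => Fintype.card K ≤ 2 * c * cent k) with hX₀
  have hsum : (Finset.univ.filter (fun p : K × K => p.1 * p.2 = p.2 * p.1)).card =
      ∑ k : K, cent k := by
    rw [Finset.card_filter, Fintype.sum_prod_type]
    simp only [hcent, Finset.card_filter]
  have hcle : ∀ k, cent k ≤ Fintype.card K := fun k => Finset.card_le_univ _
  have hbound : 2 * c * ∑ k : K, cent k ≤
      X₀.card * (2 * c * Fintype.card K) + Fintype.card K * Fintype.card K := by
    rw [Finset.mul_sum, ← Finset.sum_filter_add_sum_filter_not Finset.univ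
      (fun k : K => Fintype.card K ≤ 2 * c * cent k)]
    refine add_le_add ?_ ?_
    · have := Finset.sum_le_card_nsmul X₀ (fun k => 2 * c * cent k) (2 * c * Fintype.card K)
        (fun k _ => Nat.mul_le_mul_left _ (hcle k))
      simpa using this
    · refine le_trans (Finset.sum_le_card_nsmul _ _ (Fintype.card K) ?_) ?_
      · intro k hk
        simp only [Finset.mem_filter, Finset.mem_univ, true_and] at hk
        omega
      · rw [smul_eq_mul]
        exact Nat.mul_le_mul_right _ (Finset.card_le_univ _)
  rw [hsum] at h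
  have hpos : 0 < Fintype.card K := Fintype.card_pos
  refine Nat.le_of_mul_le_mul_left ?_ hpos
  have : 2 * (Fintype.card K ^ 2) ≤ 2 * (c * ∑ k : K, cent k) := Nat.mul_le_mul_left _ h
  nlinarith

end Count

/-- A point stabiliser of a permutation action of bounded degree. -/
theorem exists_hom_ker_le {N : ℕ} (L : Subgroup K) (hL : L.index ≤ N) :
    ∃ f : K →* Equiv.Perm (Fin N), f.ker ≤ L := by
  classical
  let _ : Fintype (K ⧸ L) := Fintype.ofFinite _
  have hc : Fintype.card (K ⧸ L) ≤ Fintype.card (Fin N) := by
    rw [Fintype.card_fin, ← Nat.card_eq_fintype_card, ← Subgroup.index_eq_card]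
    exact hL
  obtain ⟨ι⟩ := Function.Embedding.nonempty_of_card_le hc
  refine ⟨(Equiv.Perm.viaEmbeddingHom ι).comp (MulAction.toPermHom K (K ⧸ L)), ?_⟩
  intro k hk
  rw [MonoidHom.mem_ker, MonoidHom.comp_apply] at hk
  have h1 : MulAction.toPermHom K (K ⧸ L) k = 1 :=
    Equiv.Perm.viaEmbeddingHom_injective ι (hk.trans (map_one _).symm)
  have h2 : k • ((1 : K) : K ⧸ L) = ((1 : K) : K ⧸ L) := by
    have := congrFun (congrArg DFunLike.coe h1) ((1 : K) : K ⧸ L)
    simpa using this
  rw [MulAction.Quotient.smul_coe, smul_eq_mul, mul_one, QuotientGroup.eq, mul_one] at h2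
  simpa using L.inv_mem h2

/-- The intersection of all subgroups of index at most `N` has bounded index in an
`n`-generated group. -/
theorem index_sInf_index_le (S : Set K) (hgen : Subgroup.closure S = ⊤) {n : ℕ}
    (hn : S.ncard ≤ n) (N : ℕ) :
    (sInf {L : Subgroup K | L.index ≤ N}).index ≤ N.factorial ^ (N.factorial ^ n) := by
  classical
  let res : (K →* Equiv.Perm (Fin N)) → (S → Equiv.Perm (Fin N)) := fun f s => f s
  have hres : Function.Injective res := by
    intro f g h
    exact MonoidHom.eq_of_eqOn_dense hgen fun s hs => congrFun h ⟨s, hs⟩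
  have : Finite (K →* Equiv.Perm (Fin N)) := Finite.of_injective res hres
  have hpos : 0 < N.factorial := N.factorial_pos
  have hperm : Nat.card (Equiv.Perm (Fin N)) = N.factorial := by
    rw [Nat.card_perm, Nat.card_fin]
  have hhom : Nat.card (K →* Equiv.Perm (Fin N)) ≤ N.factorial ^ n := by
    refine (Nat.card_le_card_of_injective res hres).trans ?_
    rw [Nat.card_fun, hperm, Nat.card_coe_set_eq]
    exact Nat.pow_le_pow_right hpos hn
  let Φ : K →* ((K →* Equiv.Perm (Fin N)) → Equiv.Perm (Fin N)) := Pi.monoidHom fun f => f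
  have hle : Φ.ker ≤ sInf {L : Subgroup K | L.index ≤ N} := by
    refine le_sInf fun L hL => ?_
    obtain ⟨f, hf⟩ := exists_hom_ker_le L hL
    intro k hk
    refine hf ?_
    rw [MonoidHom.mem_ker] at hk ⊢
    exact congrFun hk f
  calc (sInf {L : Subgroup K | L.index ≤ N}).index ≤ Φ.ker.index :=
        Nat.le_of_dvd (Nat.pos_of_ne_zero Subgroup.index_ne_zero_of_finite)
          (Subgroup.index_dvd_of_le hle)
    _ ≤ Nat.card ((K →* Equiv.Perm (Fin N)) → Equiv.Perm (Fin N)) := by
        rw [Subgroup.index_ker]
        exact Nat.card_le_card_of_injective _ Subtype.val_injective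
    _ ≤ _ := by
        rw [Nat.card_fun, hperm]
        exact Nat.pow_le_pow_right hpos hhom

/-- A finite group generated by `n` elements with an automorphism of period two fixing at most
`m` elements has an invariant abelian subgroup of bounded index. -/
theorem exists_abelian_index_le (β : MulAut K) (hβ : ∀ x, β (β x) = x) (S : Set K)
    (hgen : Subgroup.closure S = ⊤) {n : ℕ} (hn : S.ncard ≤ n) {m : ℕ}
    (hfix : Nat.card {g : K // β g = g} ≤ m) :
    ∃ A : Subgroup K, (∀ a ∈ A, ∀ b ∈ A, a * b = b * a) ∧ (∀ a ∈ A, β a ∈ A) ∧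
      A.index ≤ abelianBound n m := by
  classical
  let _ : Fintype K := Fintype.ofFinite K
  set N := 2 * m ^ 4 with hN
  set X₀ := Finset.univ.filter (fun k : K => Fintype.card K ≤
    N * (Finset.univ.filter (fun x : K => k * x = x * k)).card) with hX₀
  have hX : Fintype.card K ≤ N * X₀.card :=
    card_le_mul_large_centralizer (card_sq_le_mul_commuting β hβ hfix)
  set H := Subgroup.closure (X₀ : Set K) with hH
  set D := sInf {L : Subgroup K | L.index ≤ N} with hD
  have hcard : ∀ k : K, (Finset.univ.filter (fun x : K => k * x = x * k)).card =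
      Nat.card (Subgroup.centralizer ({k} : Set K)) := by
    intro k
    rw [← Fintype.card_subtype, ← Nat.card_eq_fintype_card]
    exact Nat.card_congr (Equiv.subtypeEquivRight fun x =>
      ⟨fun h => Subgroup.mem_centralizer_singleton_iff.mpr h.symm,
        fun h => (Subgroup.mem_centralizer_singleton_iff.mp h).symm⟩)
  -- `H` has small index
  have hHidx : H.index ≤ N := by
    have h1 : X₀.card ≤ Nat.card H := by
      rw [← Nat.card_eq_finsetCard]
      exact Nat.card_le_card_of_injective
        (fun x => (⟨x.1, Subgroup.subset_closure x.2⟩ : H))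
        (fun a b h => Subtype.ext (by simpa using h))
    have h2 : H.index * Nat.card H ≤ N * Nat.card H := by
      rw [Subgroup.index_mul_card, Nat.card_eq_fintype_card]
      exact hX.trans (Nat.mul_le_mul_left _ h1)
    exact Nat.le_of_mul_le_mul_right h2 Nat.card_pos
  -- `D` centralises `H`
  have hcomm : ∀ a ∈ D, ∀ b ∈ H, a * b = b * a := by
    intro a ha b hb
    have hb' : H ≤ Subgroup.centralizer ({a} : Set K) := by
      rw [hH, Subgroup.closure_le]
      intro k hk
      have hk' : Fintype.card K ≤ N * Nat.card (Subgroup.centralizer ({k} : Set K)) := by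
        rw [← hcard k]
        exact (Finset.mem_filter.mp hk).2
      have hidx : (Subgroup.centralizer ({k} : Set K)).index ≤ N := by
        refine Nat.le_of_mul_le_mul_right ?_ (Nat.card_pos (α := Subgroup.centralizer ({k} : Set K)))
        rw [Subgroup.index_mul_card, Nat.card_eq_fintype_card]
        exact hk'
      have hak : a ∈ Subgroup.centralizer ({k} : Set K) :=
        (sInf_le (a := Subgroup.centralizer ({k} : Set K)) hidx) ha
      rw [SetLike.mem_coe, Subgroup.mem_centralizer_singleton_iff]
      exact (Subgroup.mem_centralizer_singleton_iff.mp hak).symm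
    exact (Subgroup.mem_centralizer_singleton_iff.mp (hb' hb)).symm
  -- invariance
  have hX₀β : ∀ k ∈ X₀, β k ∈ X₀ := by
    intro k hk
    simp only [hX₀, Finset.mem_filter, Finset.mem_univ, true_and] at hk ⊢
    refine hk.trans (Nat.mul_le_mul_left _ (Finset.card_le_card_of_injOn β ?_ β.injective.injOn))
    intro x hx
    simp only [Finset.coe_filter, Finset.mem_univ, true_and, Set.mem_ofPred_eq] at hx ⊢
    rw [← map_mul, ← map_mul, hx]
  have hHβ : ∀ a ∈ H, β a ∈ H := by
    intro a ha
    have : H ≤ H.comap β.toMonoidHom := by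
      rw [hH, Subgroup.closure_le]
      exact fun k hk => Subgroup.subset_closure (hX₀β k hk)
    exact this ha
  have hDβ : ∀ a ∈ D, β a ∈ D := by
    intro a ha
    rw [hD, Subgroup.mem_sInf] at ha ⊢
    intro L hL
    have hidx : (L.comap β.toMonoidHom).index ≤ N := by
      rw [Subgroup.index_comap_of_surjective L (f := β.toMonoidHom) β.surjective]
      exact hL
    exact ha _ hidx
  refine ⟨D ⊓ H, fun a ha b hb => hcomm a ha.1 b hb.2,
    fun a ha => ⟨hDβ a ha.1, hHβ a ha.2⟩, ?_⟩
  calc (D ⊓ H).index ≤ D.index * H.index := Subgroup.index_inf_le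
    _ ≤ abelianBound n m := Nat.mul_le_mul (index_sInf_index_le S hgen hn N) hHidx

end CfsgLib.OddInverted
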