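import Cfsg.Agent.Lib.OddInverted.CoreBound
import Cfsg.Agent.Lib.OddInverted.CoreAbelian

/-!
# The core bound: few inverted generators of bounded odd order and few fixed points bound the group
-/

set_option autoImplicit false

universe u

namespace CfsgLib.OddInverted

/-- A group generated by few inverted elements of small odd order with few fixed points is small. -/
theorem core_bound : ∃ F : ℕ → ℕ → ℕ, ∀ (K : Type u) [Group K] [Finite K] (β : MulAut K),
    (∀ x, β (β x) = x) → ∀ (n m : ℕ) (S : Set K), Nat.card S ≤ n →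
      (∀ x ∈ S, Odd (orderOf x) ∧ orderOf x ≤ n ∧ β x = x⁻¹) → Subgroup.closure S = ⊤ →
        Nat.card {x : K // β x = x} ≤ m → Nat.card K ≤ F n m := by
  refine ⟨fun n m => coreBound (abelianBound n m) n m, fun K _ _ β hβ n m S hn hS hgen hfix => ?_⟩
  rw [Nat.card_coe_set_eq] at hn
  obtain ⟨A, hab, hAβ, hidx⟩ := exists_abelian_index_le β hβ S hgen hn hfix
  exact card_le_of_abelian β hβ S hgen hn (fun g hg => (hS g hg).1) (fun g hg => (hS g hg).2.2)
    (fun g hg => (hS g hg).2.1) hfix A hab hAβ hidx

end CfsgLib.OddInverted
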