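import Mathlib

/-!
# Bounding a group generated by few inverted elements of odd order

`card_le_of_index_center`: Schur's bound for the derived subgroup and the trivial bound for the derived
quotient.  `card_le_of_abelian`: an abelian invariant subgroup of bounded index gives a central subgroup
of bounded index, since a generator of odd order inverted by the automorphism centralises the inverted
elements of the subgroup whose conjugates are inverted as well.
-/

set_option autoImplicit false
set_option linter.unusedSectionVars false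
set_option linter.style.haveILetI false

universe u

namespace CfsgLib.OddInverted

open scoped commutatorElement

/-- The bound for a group with centre of index at most `N` generated by `n` elements of order at most `n`. -/
def centerBound (N n : ℕ) : ℕ := (N + 1) ^ (N * (N * N) + 1) * (n + 1) ^ n

/-- The bound for an abelian invariant subgroup of index `i`, `n` generators and `m` fixed points. -/
def coreBound (i n m : ℕ) : ℕ := centerBound ((i * m + 1) ^ (n + 1)) n

variable {K : Type u} [Group K] [Finite K]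

/-- In a commutative group, few elements of small order generate a small subgroup. -/
theorem card_closure_le {A : Type u} [CommGroup A] [Finite A] (n : ℕ) (s : Finset A)
    (hord : ∀ g ∈ s, orderOf g ≤ n) :
    Nat.card (Subgroup.closure (s : Set A)) ≤ (n + 1) ^ s.card := by
  classical
  induction s using Finset.induction_on with
  | empty => simp
  | insert a t ha ih =>
    rw [Finset.coe_insert, Set.insert_eq, Subgroup.closure_union, Finset.card_insert_of_notMem ha, pow_succ,
      mul_comm]
    refine le_trans ?_ (Nat.mul_le_mul ((hord a (Finset.mem_insert_self a t)).trans (Nat.le_succ n))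
      (ih fun g hg => hord g (Finset.mem_insert_of_mem hg)))
    rw [← Nat.card_zpowers, ← Subgroup.zpowers_eq_closure, ← Nat.card_prod]
    refine Nat.card_le_card_of_surjective
      (fun p => (⟨p.1 * p.2, Subgroup.mul_mem_sup p.1.2 p.2.2⟩ :
        ↥(Subgroup.zpowers a ⊔ Subgroup.closure (t : Set A)))) ?_
    rintro ⟨x, hx⟩
    obtain ⟨y, hy, z, hz, rfl⟩ := Subgroup.mem_sup.1 hx
    exact ⟨(⟨y, hy⟩, ⟨z, hz⟩), rfl⟩

/-- A group with centre of bounded index, generated by few elements of small order, is small. -/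
theorem card_le_of_index_center {n N : ℕ} (S : Set K) (hgen : Subgroup.closure S = ⊤) (hn : S.ncard ≤ n)
    (hord : ∀ g ∈ S, orderOf g ≤ n) (hidx : (Subgroup.center K).index ≤ N) :
    Nat.card K ≤ centerBound N n := by
  classical
  have hc : Nat.card (commutatorSet K) ≤ (Subgroup.center K).index * (Subgroup.center K).index := by
    rw [Subgroup.index, ← Nat.card_prod]
    refine Nat.card_le_card_of_surjective
      (fun p => (⟨⁅p.1.out, p.2.out⁆, p.1.out, p.2.out, rfl⟩ : commutatorSet K)) ?_
    rintro ⟨_, g, h, rfl⟩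
    refine ⟨((g : K ⧸ Subgroup.center K), (h : K ⧸ Subgroup.center K)), Subtype.ext ?_⟩
    obtain ⟨⟨z, hz⟩, hz'⟩ := QuotientGroup.mk_out_eq_mul (Subgroup.center K) g
    obtain ⟨⟨z', hz1⟩, hz1'⟩ := QuotientGroup.mk_out_eq_mul (Subgroup.center K) h
    show ⁅(g : K ⧸ Subgroup.center K).out, (h : K ⧸ Subgroup.center K).out⁆ = ⁅g, h⁆
    rw [hz', hz1']
    have cz : ∀ x, x * z = z * x := fun x => Subgroup.mem_center_iff.1 hz x
    have cz' : ∀ x, x * z' = z' * x := fun x => Subgroup.mem_center_iff.1 hz1 x
    show g * z * (h * z') * (g * z)⁻¹ * (h * z')⁻¹ = g * h * g⁻¹ * h⁻¹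
    calc g * z * (h * z') * (g * z)⁻¹ * (h * z')⁻¹
        = g * (z * (h * z')) * z⁻¹ * g⁻¹ * z'⁻¹ * h⁻¹ := by group
      _ = g * ((h * z') * z) * z⁻¹ * g⁻¹ * z'⁻¹ * h⁻¹ := by rw [cz]
      _ = g * h * (z' * g⁻¹) * z'⁻¹ * h⁻¹ := by group
      _ = g * h * (g⁻¹ * z') * z'⁻¹ * h⁻¹ := by rw [cz']
      _ = g * h * g⁻¹ * h⁻¹ := by group
  have h1 : Nat.card (commutator K) ≤ (N + 1) ^ (N * (N * N) + 1) := by
    have hi0 : 0 < (Subgroup.center K).index := Nat.pos_of_ne_zero Subgroup.index_ne_zero_of_finite
    refine le_trans (Nat.le_of_dvd (pow_pos hi0 _) (Subgroup.card_commutator_dvd_index_center_pow K)) ?_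
    refine le_trans (Nat.pow_le_pow_left (hidx.trans (Nat.le_succ N)) _) (Nat.pow_le_pow_right (by omega) ?_)
    exact Nat.add_le_add_right (Nat.mul_le_mul hidx (hc.trans (Nat.mul_le_mul hidx hidx))) 1
  have h2 : Nat.card (Abelianization K) ≤ (n + 1) ^ n := by
    let s : Finset (Abelianization K) := (Set.toFinite S).toFinset.image Abelianization.of
    have hs : Subgroup.closure (s : Set (Abelianization K)) = ⊤ := by
      rw [Finset.coe_image, Set.Finite.coe_toFinset, ← MonoidHom.map_closure, hgen,
        ← MonoidHom.range_eq_map, MonoidHom.range_eq_top]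
      exact fun x => QuotientGroup.induction_on x fun g => ⟨g, rfl⟩
    refine le_trans (le_trans (le_of_eq ?_) (card_closure_le n s ?_)) (Nat.pow_le_pow_right (by omega) ?_)
    · rw [hs, Subgroup.card_top]
    · intro g hg
      obtain ⟨a, ha, rfl⟩ := Finset.mem_image.1 hg
      exact (Nat.le_of_dvd (orderOf_pos a) (orderOf_map_dvd _ a)).trans
        (hord a ((Set.toFinite S).mem_toFinset.1 ha))
    · exact Finset.card_image_le.trans (le_of_eq_of_le (Set.ncard_eq_toFinset_card S).symm hn)
  rw [← (commutator K).card_mul_index]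
  exact Nat.mul_le_mul h1 h2

/-- An abelian invariant subgroup of bounded index bounds the whole group. -/
theorem card_le_of_abelian {n m i : ℕ} (β : MulAut K) (hβ : ∀ x, β (β x) = x) (S : Set K)
    (hgen : Subgroup.closure S = ⊤) (hn : S.ncard ≤ n) (hodd : ∀ g ∈ S, Odd (orderOf g))
    (hinv : ∀ g ∈ S, β g = g⁻¹) (hord : ∀ g ∈ S, orderOf g ≤ n)
    (hfix : Nat.card {g : K // β g = g} ≤ m) (A : Subgroup K) (hab : ∀ a ∈ A, ∀ b ∈ A, a * b = b * a)
    (hAβ : ∀ a ∈ A, β a ∈ A) (hidx : A.index ≤ i) : Nat.card K ≤ coreBound i n m := by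
  classical
  letI := Fintype.ofFinite ↥S
  let B : Subgroup K :=
    { carrier := {a | a ∈ A ∧ β a = a⁻¹}
      one_mem' := ⟨one_mem A, by rw [map_one, inv_one]⟩
      mul_mem' := by
        rintro a b ⟨ha, ha'⟩ ⟨hb, hb'⟩
        refine ⟨mul_mem ha hb, ?_⟩
        rw [map_mul, ha', hb', mul_inv_rev]
        exact hab _ (inv_mem ha) _ (inv_mem hb)
      inv_mem' := by
        rintro a ⟨ha, ha'⟩
        exact ⟨inv_mem ha, by rw [map_inv, ha']⟩ }
  have hBA : B ≤ A := fun a ha => ha.1
  have hB : B.index ≤ i * m := by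
    rw [← Subgroup.relIndex_mul_index hBA, mul_comm]
    refine Nat.mul_le_mul hidx (le_trans ?_ hfix)
    rw [Subgroup.relIndex, Subgroup.index]
    refine Nat.card_le_card_of_injective (fun q => ⟨(q.out : K) * β (q.out : K), ?_⟩) fun q q' e => ?_
    · rw [map_mul, hβ]
      exact hab _ (hAβ _ q.out.2) _ q.out.2
    · have e' : (q.out : K) * β (q.out : K) = (q'.out : K) * β (q'.out : K) := congrArg Subtype.val e
      rw [← QuotientGroup.out_eq' q, ← QuotientGroup.out_eq' q', QuotientGroup.eq, Subgroup.mem_subgroupOf]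
      refine ⟨(q.out⁻¹ * q'.out).2, ?_⟩
      have hc := hab _ q'.out.2 _ (hAβ _ q.out.2)
      push_cast
      rw [map_mul, map_inv, mul_inv_rev, inv_inv,
        show β (q'.out : K) = (q'.out : K)⁻¹ * ((q.out : K) * β (q.out : K)) by rw [e']; group]
      calc (β (q.out : K))⁻¹ * ((q'.out : K)⁻¹ * ((q.out : K) * β (q.out : K)))
          = ((q'.out : K) * β (q.out : K))⁻¹ * ((q.out : K) * β (q.out : K)) := by group
        _ = (β (q.out : K) * (q'.out : K))⁻¹ * (β (q.out : K) * (q.out : K)) := by
            rw [hc, hab _ q.out.2 _ (hAβ _ q.out.2)]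
        _ = (q'.out : K)⁻¹ * (q.out : K) := by group
  set C : Subgroup K := B ⊓ ⨅ g : ↥S, B.map (MulAut.conj (g : K)).toMonoidHom with hC
  have hCi : C.index ≤ (i * m + 1) ^ (n + 1) := by
    refine le_trans Subgroup.index_inf_le ?_
    rw [pow_succ']
    refine Nat.mul_le_mul (hB.trans (Nat.le_succ _)) (le_trans (Subgroup.index_iInf_le _) ?_)
    refine le_trans (Finset.prod_le_pow_card Finset.univ _ (i * m + 1) fun g _ => ?_)
      (Nat.pow_le_pow_right (by omega) ?_)
    · rw [Subgroup.index_map_of_bijective (MulEquiv.bijective _)]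
      exact hB.trans (Nat.le_succ _)
    · rw [Finset.card_univ, ← Nat.card_eq_fintype_card, Nat.card_coe_set_eq]
      exact hn
  have hcen : C ≤ Subgroup.center K := by
    intro a ha
    obtain ⟨ha1, ha2⟩ := Subgroup.mem_inf.1 ha
    have hS : S ⊆ Subgroup.centralizer ({a} : Set K) := by
      intro g hg
      obtain ⟨b, hb, hba⟩ := Subgroup.mem_iInf.1 ha2 ⟨g, hg⟩
      have hba' : g * b * g⁻¹ = a := hba
      have hgg : Commute (g * g) b := by
        have e : β (g * b * g⁻¹) = (g * b * g⁻¹)⁻¹ := by rw [hba']; exact ha1.2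
        rw [map_mul, map_mul, map_inv, hinv g hg, hb.2, inv_inv] at e
        have e2 : g⁻¹ * b * g = g * b * g⁻¹ := by
          calc g⁻¹ * b * g = (g⁻¹ * b⁻¹ * g)⁻¹ := by group
            _ = g * b * g⁻¹ := by rw [e, inv_inv]
        show g * g * b = b * (g * g)
        calc g * g * b = g * (g * b * g⁻¹) * g := by group
          _ = g * (g⁻¹ * b * g) * g := by rw [e2]
          _ = b * (g * g) := by group
      obtain ⟨k, hk⟩ := exists_pow_eq_self_of_coprime (x := g) (n := 2)
        (Nat.coprime_two_left.2 (hodd g hg))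
      have hgb : Commute g b := by
        rw [← hk, pow_two]
        exact hgg.pow_left k
      rw [hgb.eq, mul_inv_cancel_right] at hba'
      subst hba'
      exact Subgroup.mem_centralizer_singleton_iff.2 hgb.eq
    refine Subgroup.mem_center_iff.2 fun g => ?_
    exact Subgroup.mem_centralizer_singleton_iff.1
      ((Subgroup.closure_le _).2 hS (hgen ▸ Subgroup.mem_top g))
  exact card_le_of_index_center S hgen hn hord
    ((Nat.le_of_dvd (Nat.pos_of_ne_zero Subgroup.index_ne_zero_of_finite)
      (Subgroup.index_dvd_of_le hcen)).trans hCi)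

/-- The first bound with the quantifiers outside. -/
theorem card_le_of_center_index (n : ℕ) :
    ∃ B : ℕ → ℕ, ∀ (K : Type u) [Group K] [Finite K] (S : Set K), Nat.card S ≤ n →
      (∀ x ∈ S, orderOf x ≤ n) → Subgroup.closure S = ⊤ →
        ∀ d, (Subgroup.center K).index ≤ d → Nat.card K ≤ B d :=
  ⟨fun d => centerBound d n, fun K _ _ S hn hord hgen _ hd =>
    card_le_of_index_center S hgen (Nat.card_coe_set_eq S ▸ hn) hord hd⟩

end CfsgLib.OddInverted
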