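import Mathlib.GroupTheory.SemidirectProduct
import Cfsg.Agent.Lib.Subnormal.GenZipper

/-!
# Generation by the odd-order elements inverted by an involutory automorphism

In a finite group `X` normally generated by an involution `t`, `t` and its conjugates `a` with `a * t` of odd
order generate `X`. For `G = [G, α]` this says that the odd-order elements inverted by `α` generate `G`.
-/

set_option autoImplicit false
set_option linter.style.haveILetI false

namespace CfsgLib.OddInverted

universe u

/-- Two conjugate involutions generating a group have a product of odd order. -/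
theorem odd_of_dihedral {X : Type*} [Group X] [Finite X] {t a : X} (ht : t * t = 1) (hconj : IsConj t a)
    (hgen : Subgroup.closure ({t, a} : Set X) = ⊤) : Odd (orderOf (a * t)) := by
  have hti : t⁻¹ = t := inv_eq_of_mul_eq_one_right ht
  obtain ⟨g, hg⟩ := isConj_iff.1 hconj
  have haa : a * a = 1 := by
    rw [← hg, show g * t * g⁻¹ * (g * t * g⁻¹) = g * (t * t) * g⁻¹ by group, ht, mul_one, mul_inv_cancel]
  set r := a * t with hr
  have hflip : ∀ i : ℤ, t * r ^ i = r ^ (-i) * t := by
    intro i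
    have h1 : t * r * t⁻¹ = r⁻¹ := by
      refine eq_inv_of_mul_eq_one_left ?_
      rw [hr, show t * (a * t) * t⁻¹ * (a * t) = t * (a * a) * t by group, haa, mul_one, ht]
    have h2 : t * r ^ i * t⁻¹ = r ^ (-i) := by rw [← conj_zpow, h1, inv_zpow, zpow_neg]
    calc t * r ^ i = t * r ^ i * t⁻¹ * t := (inv_mul_cancel_right _ _).symm
      _ = r ^ (-i) * t := by rw [h2]
  have hform : ∀ x : X, ∃ i : ℤ, x = r ^ i ∨ x = r ^ i * t := by
    intro x
    have hx : x ∈ Subgroup.closure ({t, a} : Set X) := by rw [hgen]; exact Subgroup.mem_top x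
    induction hx using Subgroup.closure_induction with
    | mem y hy =>
      rcases hy with rfl | rfl
      · exact ⟨0, Or.inr (by rw [zpow_zero, one_mul])⟩
      · exact ⟨1, Or.inr (by rw [zpow_one, hr, mul_assoc, ht, mul_one])⟩
    | one => exact ⟨0, Or.inl (zpow_zero r).symm⟩
    | mul y z _ _ hy hz =>
      obtain ⟨i, rfl | rfl⟩ := hy <;> obtain ⟨j, rfl | rfl⟩ := hz
      · exact ⟨i + j, Or.inl (zpow_add r i j).symm⟩
      · exact ⟨i + j, Or.inr (by rw [zpow_add, mul_assoc])⟩
      · exact ⟨i + -j, Or.inr (by rw [mul_assoc, hflip, zpow_add, mul_assoc])⟩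
      · refine ⟨i + -j, Or.inl ?_⟩
        rw [mul_assoc (r ^ i), ← mul_assoc t, hflip, mul_assoc (r ^ (-j)), ht, mul_one, zpow_add]
    | inv y _ hy =>
      obtain ⟨i, rfl | rfl⟩ := hy
      · exact ⟨-i, Or.inl (zpow_neg r i).symm⟩
      · refine ⟨i, Or.inr ?_⟩
        rw [mul_inv_rev, ← zpow_neg, hti, hflip, neg_neg]
  obtain ⟨j, hj⟩ : ∃ j : ℤ, a = r ^ (2 * j) * t := by
    obtain ⟨i, hi | hi⟩ := hform g
    · exact ⟨i, by rw [← hg, hi, ← zpow_neg, mul_assoc, hflip, neg_neg, ← mul_assoc, ← zpow_add, ← two_mul]⟩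
    · refine ⟨i, ?_⟩
      rw [← hg, hi, mul_inv_rev, hti, ← zpow_neg, mul_assoc (r ^ i) t t, ht, mul_one, ← mul_assoc (r ^ i) t,
        mul_assoc (r ^ i) t, hflip, neg_neg, ← mul_assoc, ← zpow_add, ← two_mul]
  have e : r ^ (2 * j - 1) = 1 := by
    have h : r ^ (2 * j) = a * t := by rw [hj, mul_assoc, ht, mul_one]
    rw [zpow_sub, zpow_one, h, mul_inv_cancel]
  rw [← orderOf_dvd_iff_zpow_eq_one] at e
  rcases Nat.even_or_odd (orderOf r) with he | ho
  · exfalso
    have h2 : (2 : ℤ) ∣ 2 * j - 1 := (Int.natCast_dvd_natCast.2 he.two_dvd).trans e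
    omega
  · exact ho

/-- `t` and its conjugates `a` with `a * t` of odd order generate. -/
theorem closure_conj_odd (N : ℕ) : ∀ (X : Type u) [Group X] [Finite X] (t : X), Nat.card X ≤ N → t * t = 1 →
    Subgroup.normalClosure ({t} : Set X) = ⊤ →
    Subgroup.closure (insert t {a : X | IsConj t a ∧ Odd (orderOf (a * t))}) = ⊤ := by
  induction N with
  | zero =>
    intro X _ _ t h0 _ _
    exact absurd h0 (Nat.not_le.2 Nat.card_pos)
  | succ N ih =>
    intro X _ _ t hN ht htop
    set Y := Subgroup.closure (insert t {a : X | IsConj t a ∧ Odd (orderOf (a * t))}) with hYdef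
    by_contra hY
    have htY : t ∈ Y := Subgroup.subset_closure (Set.mem_insert _ _)
    set A := Subgroup.zpowers t with hA
    have hAY : A ≤ Y := Subgroup.zpowers_le.2 htY
    have hAtop : Subgroup.normalClosure (A : Set X) = ⊤ := top_le_iff.1 <| by
      rw [← htop]
      exact Subgroup.normalClosure_mono (Set.singleton_subset_iff.2 (Subgroup.mem_zpowers t))
    have hAne : A ≠ ⊤ := fun e => hY (top_le_iff.1 (e ▸ hAY))
    have hsup : sSup {H : Subgroup X | A ≤ H ∧ H ≠ ⊤ ∧ GenZipper.Cls A H} ≠ ⊤ := by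
      refine fun e => hY (top_le_iff.1 (e ▸ sSup_le ?_))
      rintro H ⟨hAH, hHne, hcls⟩
      set t' : ↥H := ⟨t, hAH (Subgroup.mem_zpowers t)⟩ with ht'
      have hlt : Nat.card ↥H < Nat.card X := lt_of_le_of_ne H.card_le_card_group fun e' =>
        hHne (H.eq_top_of_card_eq e')
      have h' : Subgroup.normalClosure ({t'} : Set ↥H) = ⊤ := by
        rw [eq_top_iff, ← hcls.2]
        refine Subgroup.normalClosure_le_normal fun x hx => ?_
        obtain ⟨i, hi⟩ := (hx : (x : X) ∈ A)
        rw [SetLike.mem_coe, show x = t' ^ i from Subtype.ext (by push_cast; exact hi.symm)]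
        exact zpow_mem (Subgroup.subset_normalClosure (Set.mem_singleton t')) i
      have hcl := ih ↥H t' (by omega) (Subtype.ext ht) h'
      intro x hx
      have hle : (⊤ : Subgroup ↥H) ≤ Y.comap H.subtype := by
        rw [← hcl, Subgroup.closure_le]
        rintro y (rfl | ⟨hy1, hy2⟩)
        · exact htY
        · refine Subgroup.subset_closure (Or.inr ⟨H.subtype.map_isConj hy1, ?_⟩)
          rwa [← Subgroup.orderOf_coe] at hy2
      exact hle (Subgroup.mem_top ⟨x, hx⟩)
    obtain ⟨M, ⟨hM, hAM⟩, huniq⟩ := GenZipper.main A hAtop hAne hsup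
    obtain ⟨K, hK, hYK⟩ := (eq_top_or_exists_le_coatom Y).resolve_left hY
    have hYM : Y ≤ M := huniq K ⟨hK, hAY.trans hYK⟩ ▸ hYK
    obtain ⟨a, hta, haM⟩ : ∃ a, IsConj t a ∧ a ∉ M := by
      by_contra hall
      push Not at hall
      refine hM.1 (top_le_iff.1 (htop.ge.trans ((Subgroup.closure_le M).2 fun a ha => ?_)))
      obtain ⟨b, hb, hab⟩ := Group.mem_conjugatesOfSet_iff.1 ha
      rw [Set.mem_singleton_iff.1 hb] at hab
      exact hall a hab
    have hgen : Subgroup.closure ({t, a} : Set X) = ⊤ := by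
      refine (eq_top_or_exists_le_coatom _).resolve_right ?_
      rintro ⟨L, hL, hle⟩
      have hLM : L = M := huniq L ⟨hL, Subgroup.zpowers_le.2 (hle (Subgroup.subset_closure (Set.mem_insert _ _)))⟩
      exact haM (hLM ▸ hle (Subgroup.subset_closure (Or.inr rfl)))
    exact haM (hYM (Subgroup.subset_closure (Or.inr ⟨hta, odd_of_dihedral ht hta hgen⟩)))

/-- The odd-order elements inverted by `α` generate `G = [G, α]`. -/
theorem closure_inverted {G : Type u} [Group G] [Finite G] (α : MulAut G) (hα : ∀ x, α (α x) = x)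
    (hgen : Subgroup.closure (Set.range fun c : G => c * (α c)⁻¹) = ⊤) :
    Subgroup.closure {g : G | Odd (orderOf g) ∧ α g = g⁻¹} = ⊤ := by
  classical
  let Z := Subgroup.zpowers α
  let φ : ↥Z →* MulAut G := Z.subtype
  haveI : Finite (G ⋊[φ] ↥Z) := Finite.of_equiv _ SemidirectProduct.equivProd.symm
  set u : G →* G ⋊[φ] ↥Z := SemidirectProduct.inl with hu
  set αZ : ↥Z := ⟨α, Subgroup.mem_zpowers α⟩ with hαZ
  set t : G ⋊[φ] ↥Z := SemidirectProduct.inr αZ with ht
  have hαα : αZ * αZ = 1 := Subtype.ext (MulEquiv.ext hα)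
  have htt : t * t = 1 := by rw [ht, ← map_mul, hαα, map_one]
  have hti : t⁻¹ = t := inv_eq_of_mul_eq_one_right htt
  have hc : ∀ g, t * u g * t⁻¹ = u (α g) := fun g => by
    rw [hu, ht, ← map_inv (SemidirectProduct.inr : ↥Z →* G ⋊[φ] ↥Z)]
    exact (SemidirectProduct.inl_aut αZ g).symm
  have hct : ∀ c, u c * t * (u c)⁻¹ = u (c * (α c)⁻¹) * t := fun c => by
    rw [map_mul, ← map_inv α, ← hc, map_inv, hti]
    simp only [mul_assoc, htt, mul_one]
  have htop : Subgroup.normalClosure ({t} : Set (G ⋊[φ] ↥Z)) = ⊤ := by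
    refine top_le_iff.1 fun x _ => ?_
    have h1 : ∀ g : G, u g ∈ Subgroup.normalClosure ({t} : Set (G ⋊[φ] ↥Z)) := by
      intro g
      have hle : (⊤ : Subgroup G) ≤ (Subgroup.normalClosure ({t} : Set (G ⋊[φ] ↥Z))).comap u := by
        rw [← hgen, Subgroup.closure_le]
        rintro _ ⟨c, rfl⟩
        have htN := Subgroup.subset_normalClosure (Set.mem_singleton t)
        have := mul_mem (Subgroup.normalClosure_normal.conj_mem t htN (u c)) htN
        rwa [hct, mul_assoc, htt, mul_one] at this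
      exact hle (Subgroup.mem_top g)
    rw [← SemidirectProduct.inl_left_mul_inr_right x]
    refine mul_mem (h1 _) ?_
    obtain ⟨i, hi⟩ := x.right.2
    rw [show x.right = αZ ^ i from Subtype.ext (by push_cast; exact hi.symm), map_zpow]
    exact zpow_mem (Subgroup.subset_normalClosure (Set.mem_singleton t)) i
  set J := {g : G | Odd (orderOf g) ∧ α g = g⁻¹} with hJ
  set K := Subgroup.closure J with hK
  have hKα : ∀ k ∈ K, α k ∈ K := by
    have hle : K ≤ K.comap α.toMonoidHom := by
      rw [hK, Subgroup.closure_le]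
      intro g hg
      show α g ∈ Subgroup.closure J
      rw [hg.2]
      exact inv_mem (Subgroup.subset_closure hg)
    exact fun k hk => hle hk
  have hKz : ∀ z : ↥Z, ∀ k ∈ K, φ z k ∈ K := by
    intro z k hk
    obtain ⟨i, hi⟩ := z.2
    have h1 : φ z = α ^ i := hi.symm
    have h2 : α ^ i = 1 ∨ α ^ i = α := by
      have e : α ^ (2 : ℤ) = 1 := MulEquiv.ext hα
      obtain ⟨j, rfl | rfl⟩ := Int.even_or_odd' i
      · left; rw [zpow_mul, e, one_zpow]
      · right; rw [zpow_add, zpow_mul, e, one_zpow, one_mul, zpow_one]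
    rcases h2 with e | e <;> rw [h1, e]
    · exact hk
    · exact hKα k hk
  let W : Subgroup (G ⋊[φ] ↥Z) :=
    { carrier := {x | x.left ∈ K}
      one_mem' := one_mem K
      mul_mem' := fun {x y} hx hy => by
        show (x * y).left ∈ K
        rw [SemidirectProduct.mul_left]
        exact mul_mem hx (hKz _ _ hy)
      inv_mem' := fun {x} hx => by
        show x⁻¹.left ∈ K
        rw [SemidirectProduct.inv_left]
        exact hKz _ _ (inv_mem hx) }
  have hcl := closure_conj_odd _ (G ⋊[φ] ↥Z) t le_rfl htt htop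
  refine top_le_iff.1 fun g _ => ?_
  have hle : (⊤ : Subgroup (G ⋊[φ] ↥Z)) ≤ W := by
    rw [← hcl, Subgroup.closure_le]
    rintro a (rfl | ⟨ha1, ha2⟩)
    · show t.left ∈ K
      rw [ht, SemidirectProduct.left_inr]
      exact one_mem K
    obtain ⟨x, hx⟩ := isConj_iff.1 ha1
    obtain ⟨i, hi⟩ := x.right.2
    have hxt : Commute (SemidirectProduct.inr x.right : G ⋊[φ] ↥Z) t := by
      rw [show x.right = αZ ^ i from Subtype.ext (by push_cast; exact hi.symm), map_zpow]
      exact (Commute.refl t).zpow_left i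
    have ha : a = u (x.left * (α x.left)⁻¹) * t := by
      rw [← hct, ← hx]
      conv_lhs => rw [← SemidirectProduct.inl_left_mul_inr_right x, mul_inv_rev, ← hu, mul_assoc (u x.left),
        hxt.eq, ← mul_assoc (u x.left), ← mul_assoc, mul_inv_cancel_right]
    have hmem : x.left * (α x.left)⁻¹ ∈ J := by
      refine ⟨?_, by rw [map_mul, map_inv, hα, mul_inv_rev, inv_inv]⟩
      rw [← orderOf_injective u SemidirectProduct.inl_injective]
      rwa [ha, mul_assoc, htt, mul_one] at ha2
    show a.left ∈ K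
    rw [ha, hu, ht, SemidirectProduct.mul_left, SemidirectProduct.left_inl, SemidirectProduct.left_inr,
      map_one, mul_one]
    exact Subgroup.subset_closure hmem
  exact hle (Subgroup.mem_top (u g))

end CfsgLib.OddInverted
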