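import Cfsg.Agent.Lib.Subnormal.GenZipper

/-!
# Iterated commutators with one element generate

For a finite group `X` generated by the conjugates of `t`, and `φ a = a t a⁻¹`, the element `t` and the
`j`-fold image under `φ` of the class of `t` generate `X` (zipper lemma: the unique maximal subgroup
containing `t` is self-normalising, so `φ` keeps the class members outside it).
-/

set_option autoImplicit false
set_option linter.unusedSectionVars false

universe u

namespace CfsgLib.OddInverted

open GenZipper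

variable {X : Type u} [Group X]

/-- The class of `t`. -/
def classOf (t : X) : Set X := {x | ∃ g, g * t * g⁻¹ = x}

/-- `a ↦ a t a⁻¹`. -/
def conjStep (t a : X) : X := a * t * a⁻¹

/-- The iterated images of the class generate with `t`. -/
theorem closure_iterate_aux (n : ℕ) : ∀ (X : Type u) [Group X] [Finite X], Nat.card X = n →
    ∀ (t : X), Subgroup.normalClosure ({t} : Set X) = ⊤ →
      ∀ j : ℕ, Subgroup.closure ({t} ∪ (conjStep t)^[j] '' classOf t) = ⊤ := by
  induction n using Nat.strong_induction_on with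
  | _ n ih =>
    intro X _ _ hn t ht j
    set Y := Subgroup.closure ({t} ∪ (conjStep t)^[j] '' classOf t) with hYdef
    by_contra hY
    have htY : t ∈ Y := Subgroup.subset_closure (Or.inl rfl)
    set A := Subgroup.zpowers t with hAdef
    have hAY : A ≤ Y := Subgroup.zpowers_le.2 htY
    have hA : Subgroup.normalClosure (A : Set X) = ⊤ := top_le_iff.1
      (ht ▸ Subgroup.normalClosure_mono (Set.singleton_subset_iff.2 (Subgroup.mem_zpowers t)))
    have hsub : sSup {H : Subgroup X | A ≤ H ∧ H ≠ ⊤ ∧ Cls A H} ≤ Y := by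
      refine sSup_le fun H hH => ?_
      obtain ⟨hAH, hne, hcls⟩ := hH
      have htH : t ∈ H := hAH (Subgroup.mem_zpowers t)
      have hlt : Nat.card H < n := hn ▸ lt_of_le_of_ne (Subgroup.card_le_card_group H)
        fun e => hne (Subgroup.eq_top_of_card_eq H e)
      have hnc : Subgroup.normalClosure ({⟨t, htH⟩} : Set ↥H) = ⊤ := by
        refine top_le_iff.1 (hcls.2.ge.trans (Subgroup.normalClosure_le_normal ?_))
        intro x hx
        obtain ⟨i, hi⟩ := Subgroup.mem_zpowers_iff.1 (Subgroup.mem_subgroupOf.1 hx)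
        have hxmem : x ∈ Subgroup.zpowers (⟨t, htH⟩ : ↥H) :=
          Subgroup.mem_zpowers_iff.2 ⟨i, Subtype.ext (by rw [Subgroup.coe_zpow]; exact hi)⟩
        exact (Subgroup.zpowers_le.2 (Subgroup.subset_normalClosure (Set.mem_singleton _))) hxmem
      have hgen := ih (Nat.card H) hlt ↥H rfl ⟨t, htH⟩ hnc j
      have hmap := congrArg (Subgroup.map H.subtype) hgen
      rw [MonoidHom.map_closure, ← MonoidHom.range_eq_map, Subgroup.range_subtype] at hmap
      rw [← hmap]
      refine Subgroup.closure_mono ?_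
      rintro _ ⟨y, hy | ⟨a, ⟨g, hg⟩, rfl⟩, rfl⟩
      · left; rw [hy]; rfl
      · right
        refine ⟨(a : X), ⟨(g : X), by rw [← hg]; rfl⟩, ?_⟩
        exact ((Function.Semiconj.iterate_right (f := fun y : ↥H => (y : X))
          (ga := conjStep ⟨t, htH⟩) (gb := conjStep t) (fun _ => rfl) j) a).symm
    have hAne : A ≠ ⊤ := fun e => hY (top_le_iff.1 (e.ge.trans hAY))
    have hS : sSup {H : Subgroup X | A ≤ H ∧ H ≠ ⊤ ∧ Cls A H} ≠ ⊤ :=
      fun e => hY (top_le_iff.1 (e.ge.trans hsub))
    obtain ⟨M, ⟨hM, hAM⟩, huniq⟩ := GenZipper.main A hA hAne hS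
    have htM : t ∈ M := hAM (Subgroup.mem_zpowers t)
    obtain ⟨M', hM', hYM'⟩ := (eq_top_or_exists_le_coatom Y).resolve_left hY
    have hYM : Y ≤ M := (huniq M' ⟨hM', hAY.trans hYM'⟩) ▸ hYM'
    have hnn : ¬ M.Normal := fun h => hM.1 (top_le_iff.1
      (ht.ge.trans (Subgroup.normalClosure_le_normal (Set.singleton_subset_iff.2 htM))))
    have hnorm : Subgroup.normalizer (M : Set X) = M := by
      by_contra hne
      exact hnn (Subgroup.normalizer_eq_top_iff.1 (hM.2 _ (lt_of_le_of_ne Subgroup.le_normalizer (Ne.symm hne))))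
    have key : ∀ a : X, a ∈ classOf t ∧ a ∉ M → conjStep t a ∈ classOf t ∧ conjStep t a ∉ M := by
      rintro a ⟨-, haM⟩
      refine ⟨⟨a, rfl⟩, fun hmem => haM ?_⟩
      have hcj : cj a⁻¹ M = M := huniq _ ⟨cj_isCoatom _ hM, by
        refine Subgroup.zpowers_le.2 ⟨conjStep t a, hmem, ?_⟩
        show a⁻¹ * (a * t * a⁻¹) * a⁻¹⁻¹ = t
        group⟩
      have : a⁻¹ ∈ Subgroup.normalizer (M : Set X) := by
        refine Subgroup.mem_normalizer_iff_map_conj_eq.2 hcj
      rw [hnorm] at this
      exact inv_mem_iff.1 this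
    obtain ⟨a, ha, haM⟩ : ∃ a, a ∈ classOf t ∧ a ∉ M := by
      by_contra hall
      push Not at hall
      refine hM.1 (top_le_iff.1 (ht.ge.trans ?_))
      show Subgroup.closure (Group.conjugatesOfSet ({t} : Set X)) ≤ M
      rw [Subgroup.closure_le]
      intro x hx
      obtain ⟨b, hb, hc⟩ := Group.mem_conjugatesOfSet_iff.1 hx
      rw [Set.mem_singleton_iff] at hb
      subst hb
      obtain ⟨g, hg⟩ := isConj_iff.1 hc
      exact hall x ⟨g, hg⟩
    have hall : ∀ i : ℕ, (conjStep t)^[i] a ∈ classOf t ∧ (conjStep t)^[i] a ∉ M := by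
      intro i
      induction i with
      | zero => exact ⟨ha, haM⟩
      | succ i hi => rw [Function.iterate_succ_apply']; exact key _ hi
    exact (hall j).2 (hYM (Subgroup.subset_closure (Or.inr ⟨a, ha, rfl⟩)))

/-- The iterated images of the class generate with `t`. -/
theorem closure_iterate [Finite X] {t : X} (ht : Subgroup.normalClosure ({t} : Set X) = ⊤) (j : ℕ) :
    Subgroup.closure ({t} ∪ (conjStep t)^[j] '' classOf t) = ⊤ :=
  closure_iterate_aux _ X rfl t ht j

end CfsgLib.OddInverted
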