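import Cfsg.Agent.Lib.OddInverted.Generation

/-!
# Reduction to a bound for a group with boundedly many fixed points

With `J` the odd-order elements inverted by `α` and generating `G`, the automorphism induced on `G ⧸ Z(G)`
fixes at most `n ^ n` elements, `n = #J`: such an element acts on `J` and is determined by that action.
-/

set_option autoImplicit false
set_option linter.style.haveILetI false

namespace CfsgLib.OddInverted

/-- From the two bounds, a bound of `|G|` by the number of odd-order inverted elements. -/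
theorem bound_of_core {F : ℕ → ℕ → ℕ} {B : ℕ → ℕ → ℕ}
    (hF : ∀ (K : Type) [Group K] [Finite K] (β : MulAut K), (∀ x, β (β x) = x) →
      ∀ (n m : ℕ) (S : Set K), Nat.card S ≤ n → (∀ x ∈ S, Odd (orderOf x) ∧ orderOf x ≤ n ∧ β x = x⁻¹) →
        Subgroup.closure S = ⊤ → Nat.card {x : K // β x = x} ≤ m → Nat.card K ≤ F n m)
    (hB : ∀ (n : ℕ) (K : Type) [Group K] [Finite K] (S : Set K), Nat.card S ≤ n →
      (∀ x ∈ S, orderOf x ≤ n) → Subgroup.closure S = ⊤ →
        ∀ d, (Subgroup.center K).index ≤ d → Nat.card K ≤ B n d)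
    {G : Type} [Group G] [Finite G] (α : MulAut G) (hα : ∀ x, α (α x) = x)
    (hgen : Subgroup.closure (Set.range fun c : G => c * (α c)⁻¹) = ⊤) {n : ℕ}
    (hn : Nat.card {g : G // Odd (orderOf g) ∧ α g = g⁻¹} = n) :
    Nat.card G ≤ B n (F n (n ^ n)) := by
  classical
  set J := {g : G | Odd (orderOf g) ∧ α g = g⁻¹} with hJdef
  have hJ : Subgroup.closure J = ⊤ := closure_inverted α hα hgen
  have hcard : Nat.card J = n := hn
  have hord : ∀ x ∈ J, orderOf x ≤ n := by
    intro x hx
    rw [← Nat.card_zpowers, ← hcard]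
    refine Nat.card_le_card_of_injective (fun y : Subgroup.zpowers x => (⟨y, ?_⟩ : J)) ?_
    · obtain ⟨i, hi⟩ := y.2
      replace hi : x ^ i = (y : G) := hi
      rw [← hi]
      refine ⟨hx.1.of_dvd_nat (orderOf_dvd_of_mem_zpowers ⟨i, rfl⟩), ?_⟩
      rw [map_zpow, hx.2, inv_zpow]
    · exact fun a b e => Subtype.ext (congrArg (fun v : J => (v : G)) e)
  refine hB n G J hcard.le hord hJ _ ?_
  set Z := Subgroup.center G with hZ
  let β : MulAut (G ⧸ Z) := QuotientGroup.congr Z Z α (Subgroup.characteristic_iff_map_eq.1 inferInstance α)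
  have hβmk : ∀ x : G, β (QuotientGroup.mk x) = QuotientGroup.mk (α x) := fun x =>
    QuotientGroup.congr_mk Z Z α _ x
  have hββ : ∀ q, β (β q) = q := fun q => by
    obtain ⟨x, rfl⟩ := QuotientGroup.mk_surjective q
    rw [hβmk, hβmk, hα]
  rw [Subgroup.index_eq_card]
  refine hF (G ⧸ Z) β hββ n (n ^ n) (QuotientGroup.mk' Z '' J) ?_ ?_ ?_ ?_
  · exact (Nat.card_image_le J.toFinite).trans hcard.le
  · rintro _ ⟨x, hx, rfl⟩
    refine ⟨hx.1.of_dvd_nat (orderOf_map_dvd _ x),
      (Nat.le_of_dvd (orderOf_pos x) (orderOf_map_dvd _ x)).trans (hord x hx), ?_⟩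
    show β (QuotientGroup.mk x) = (QuotientGroup.mk x)⁻¹
    rw [hβmk, hx.2, QuotientGroup.mk_inv]
  · rw [← MonoidHom.map_closure, hJ, Subgroup.map_top_of_surjective _ (QuotientGroup.mk'_surjective Z)]
  · have hZJ : ∀ q : {q : G ⧸ Z // β q = q}, ∀ j ∈ J, (q.1.out * j * q.1.out⁻¹) ∈ J := by
      intro q j hj
      set x := q.1.out with hxdef
      have hx : x⁻¹ * α x ∈ Z := by
        have e := q.2
        rw [← QuotientGroup.out_eq' q.1, hβmk] at e
        exact (QuotientGroup.eq).1 e.symm
      refine ⟨?_, ?_⟩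
      · rw [← MulAut.conj_apply, MulEquiv.orderOf_eq]
        exact hj.1
      · have hc : α x * j⁻¹ * (α x)⁻¹ = x * j⁻¹ * x⁻¹ := by
          have h1 := Subgroup.mem_center_iff.1 hx j⁻¹
          rw [show α x = x * (x⁻¹ * α x) by group]
          calc x * (x⁻¹ * α x) * j⁻¹ * (x * (x⁻¹ * α x))⁻¹
              = x * ((x⁻¹ * α x) * j⁻¹) * (x⁻¹ * α x)⁻¹ * x⁻¹ := by group
            _ = x * (j⁻¹ * (x⁻¹ * α x)) * (x⁻¹ * α x)⁻¹ * x⁻¹ := by rw [← h1]
            _ = x * j⁻¹ * x⁻¹ := by group
        rw [map_mul, map_mul, map_inv, hj.2, hc]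
        group
    calc Nat.card {q : G ⧸ Z // β q = q} ≤ Nat.card (J → J) := by
          refine Nat.card_le_card_of_injective (fun q j => ⟨_, hZJ q j j.2⟩) ?_
          intro q q' e
          refine Subtype.ext ?_
          rw [← QuotientGroup.out_eq' q.1, ← QuotientGroup.out_eq' q'.1]
          refine (QuotientGroup.eq).2 ?_
          refine Subgroup.mem_center_iff.2 fun g => ?_
          have hle : (⊤ : Subgroup G) ≤ Subgroup.centralizer ({q.1.out⁻¹ * q'.1.out} : Set G) := by
            rw [← hJ, Subgroup.closure_le]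
            intro j hj
            refine Subgroup.mem_centralizer_singleton_iff.2 ?_
            have h1 : q.1.out * j * q.1.out⁻¹ = q'.1.out * j * q'.1.out⁻¹ :=
              congrArg Subtype.val (congrFun e ⟨j, hj⟩)
            calc j * (q.1.out⁻¹ * q'.1.out) = q.1.out⁻¹ * (q.1.out * j * q.1.out⁻¹) * q'.1.out := by group
              _ = q.1.out⁻¹ * q'.1.out * j := by rw [h1]; group
          exact Subgroup.mem_centralizer_singleton_iff.1 (hle (Subgroup.mem_top g))
      _ = n ^ n := by rw [Nat.card_fun, hcard]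

end CfsgLib.OddInverted
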